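import Groth.Agent.AlgSp.K621.ContrDefs
import Groth.Agent.Dix.IdealModCartier
import Groth.Agent.Resolve.K373.FibAmple
import Groth.Agent.Lefpen.H608.TwistTriv

/-!
# A proper morphism with ample exceptional ideal is finite away from the point (node E4 of S14992, helper92)
-/

set_option autoImplicit false
universe u
open CategoryTheory CategoryTheory.Limits AlgebraicGeometry Topology TopologicalSpace K621.ContrDefs

namespace K92.ContrAway

open Groth.Agent.Dix.IdealModCartier

/-- The subscheme attached to an ideal sheaf all of whose ideals are radical is reduced. -/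
theorem isReduced_subscheme {Y : Scheme.{u}} (I : Y.IdealSheafData)
    (hI : ∀ U : Y.affineOpens, (I.ideal U).IsRadical) : IsReduced I.subscheme := by
  have h1 : ∀ i, IsReduced (I.subschemeCover.openCover.X i) := by
    intro U
    have : _root_.IsReduced (Γ(Y, U.1) ⧸ I.ideal U) := (Ideal.isRadical_iff_quotient_reduced _).mp (hI U)
    change IsReduced (Spec (.of (Γ(Y, U.1) ⧸ I.ideal U)))
    infer_instance
  exact IsReduced.of_openCover _ I.subschemeCover.openCover

/-- The ideal module of an effective Cartier divisor pulls back to the structure sheaf along a morphism whose image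
misses the divisor. -/
theorem pullback_idealMod_trivial {X Y : Scheme.{u}} (g : Y ⟶ X) {D : X.IdealSheafData}
    (hD : BlowUp.IsEffCartierIdeal D) (h : ∀ y : Y, g y ∉ D.support) :
    Nonempty ((Scheme.Modules.pullback g).obj (ClSub.idealMod D) ≅ Coh.structureModule Y) := by
  have h1 : D.comap g = ⊤ := by
    rw [← Scheme.IdealSheafData.support_eq_bot_iff]
    refine le_bot_iff.1 fun y hy => ?_
    rw [Scheme.IdealSheafData.support_comap] at hy
    exact (h y hy).elim
  have h2 : BlowUp.IsEffCartierIdeal (D.comap g) := by rw [h1]; exact Groth.Agent.Divis.EffCartier.isEff_top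
  obtain ⟨e⟩ := pullback_idealMod g hD h2
  obtain ⟨e'⟩ := idealMod_principal (X := Y) (D := ⊤) (a := 1) (by
    intro W hW
    rw [map_one]
    refine ⟨one_mem _, ?_⟩
    rw [Ideal.span_singleton_one]
    rfl)
  rw [h1] at e
  exact ⟨e ≪≫ e'.symm⟩

/-- **Node E4.** -/
theorem finite_away {C : Type u} [CommRing C] [IsNoetherianRing C] (M : Ideal C) [M.IsMaximal]
    {W : Scheme.{u}} (q : W ⟶ Spec (CommRingCat.of C)) [IsProper q] (J : W.IdealSheafData)
    (hJ : BlowUp.IsEffCartierIdeal J) (n : ℕ) (hn : 0 < n)
    (h : J ^ n = (Spec.map (CommRingCat.ofHom (Ideal.Quotient.mk M))).ker.comap q)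
    (hamp : CohB1.IsAmple ((Scheme.Modules.pullback J.subschemeι).obj (ClSub.idealMod J))) :
    ∃ c : C, c ∉ M ∧ ∀ b ∈ M, IsFinite (q ∣_ (PrimeSpectrum.basicOpen (b * c))) := by
  set s : PrimeSpectrum C := ⟨M, inferInstance⟩ with hs
  have hsc : IsClosed ({s} : Set (PrimeSpectrum C)) := by
    rw [PrimeSpectrum.isClosed_singleton_iff_isMaximal]
    infer_instance
  -- the support of `J` is the fibre over `s`
  have hsupp : ∀ w : W, w ∈ J.support ↔ q w = s := by
    intro w
    rw [← Scheme.IdealSheafData.support_pow J n hn.ne', h, Scheme.IdealSheafData.support_comap]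
    have h1 : ((Spec.map (CommRingCat.ofHom (Ideal.Quotient.mk M))).ker.support : Set (Spec (CommRingCat.of C))) =
        {s} := by
      rw [Scheme.Hom.support_ker]
      have h2 : Set.range (Spec.map (CommRingCat.ofHom (Ideal.Quotient.mk M))) =
          PrimeSpectrum.zeroLocus (M : Set C) := by
        have := range_comap_of_surjective _ (Ideal.Quotient.mk M) Ideal.Quotient.mk_surjective
        rw [Ideal.mk_ker] at this
        exact this
      rw [h2]
      refine (PrimeSpectrum.isClosed_zeroLocus (M : Set C)).closure_eq.trans ?_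
      ext x
      rw [PrimeSpectrum.mem_zeroLocus]
      constructor
      · intro hx
        apply PrimeSpectrum.ext
        exact ((‹M.IsMaximal›).eq_of_le x.isPrime.ne_top hx).symm
      · rintro rfl
        exact subset_rfl
    constructor
    · intro hw
      have : q w ∈ ((Spec.map (CommRingCat.ofHom (Ideal.Quotient.mk M))).ker.support :
        Set (Spec (CommRingCat.of C))) := hw
      rw [h1] at this
      exact this
    · intro hw
      change q w ∈ ((Spec.map (CommRingCat.ofHom (Ideal.Quotient.mk M))).ker.support :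
        Set (Spec (CommRingCat.of C)))
      rw [h1]
      exact hw
  have hN : IsNoetherian (Spec (CommRingCat.of C)) := inferInstance
  -- the reduction of `V(J)`
  let N : J.subscheme.IdealSheafData := J.subscheme.nilradical
  have hNred : IsReduced N.subscheme := isReduced_subscheme N fun U => by
    change (nilradical _).IsRadical
    exact Ideal.radical_isRadical _
  have hrange : Set.range (N.subschemeι ≫ J.subschemeι) = (J.support : Set W) := by
    have hs1 : Function.Surjective N.subschemeι := by
      rw [← Set.range_eq_univ, Scheme.IdealSheafData.range_subschemeι, Scheme.support_nilradical]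
      rfl
    rw [← Scheme.IdealSheafData.range_subschemeι J]
    ext w
    constructor
    · rintro ⟨z, rfl⟩
      exact ⟨N.subschemeι z, (Scheme.Hom.comp_apply _ _ _).symm⟩
    · rintro ⟨z, rfl⟩
      obtain ⟨z', rfl⟩ := hs1 z
      exact ⟨z', Scheme.Hom.comp_apply _ _ _⟩
  obtain ⟨V, hV, hVamp⟩ := K373.FibAmple.exists_isAmple_near (N.subschemeι ≫ J.subschemeι) q (ClSub.idealMod J)
    ((isInvertible_idealMod_iff J).2 hJ) s hsc
    (fun w => by rw [hrange, ← hsupp]; rfl)
    ((Groth.Agent.CohqB.AmpCocycle.isAmple_pullback_comp_iff N.subschemeι J.subschemeι _ rfl _).1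
      (Groth.Agent.CohqB.AmpCocycle.isAmple_pullback N.subschemeι hamp))
  obtain ⟨_, ⟨_, ⟨c, rfl⟩, rfl⟩, hc, hcV⟩ := PrimeSpectrum.isBasis_basic_opens.exists_subset_of_mem_open hV V.2
  refine ⟨c, hc, fun b hb => ?_⟩
  have hle : (PrimeSpectrum.basicOpen (b * c) : Opens (PrimeSpectrum C)) ≤ V :=
    (PrimeSpectrum.basicOpen_mul_le_right b c).trans hcV
  have haff : IsAffineOpen (X := Spec (CommRingCat.of C)) (PrimeSpectrum.basicOpen (b * c)) :=
    IsAffineOpen.Spec_basicOpen _
  have hamp2 := hVamp _ hle haff
  have : IsAffine (Scheme.Opens.toScheme (X := Spec (CommRingCat.of C)) (PrimeSpectrum.basicOpen (b * c))) := haff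
  have htriv := pullback_idealMod_trivial (q ⁻¹ᵁ (PrimeSpectrum.basicOpen (b * c))).ι hJ (by
    intro y hy
    have h3 : q y.1 = s := (hsupp _).1 hy
    have h4 : q y.1 ∈ (PrimeSpectrum.basicOpen (b * c) : Opens (PrimeSpectrum C)) := y.2
    rw [h3] at h4
    exact h4 (Ideal.mul_mem_right c M hb))
  obtain ⟨e⟩ := htriv
  rw [Groth.Agent.CohqB.AmpCocycle.isAmple_restrict_iff] at hamp2
  exact Groth.Agent.Lefpen.H608.TwistTriv.isFinite_of_isAmple_structureModule _
    (Groth.Agent.CohqB.AmpCocycle.isAmple_of_iso e hamp2)

end K92.ContrAway
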