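import Groth.Agent.AlgSp.K621.ContrDefs
import Groth.Agent.S1297
import Mathlib.AlgebraicGeometry.ZariskisMainTheorem

/-!
# Stein contraction of an irreducible fibre (node E5 of S14992, helper92)
-/

set_option autoImplicit false
universe u
open CategoryTheory CategoryTheory.Limits AlgebraicGeometry Topology TopologicalSpace K621.ContrDefs

namespace K92.ContrStein

/-- Quasi-finiteness at a point can be checked over an open neighbourhood of the image. -/
theorem quasiFiniteAt_of_restrict {X Y : Scheme.{u}} (f : X ⟶ Y) (U : Y.Opens) [LocallyQuasiFinite (f ∣_ U)]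
    (x : X) (hx : f x ∈ U) : f.QuasiFiniteAt x := by
  have h1 : (f ∣_ U ≫ U.ι).QuasiFiniteAt ⟨x, hx⟩ := Scheme.Hom.quasiFiniteAt _ _
  rw [morphismRestrict_ι, Scheme.Hom.quasiFiniteAt_comp_iff_of_isOpenImmersion] at h1
  exact h1

/-- An irreducible subset of a fibre of a finite morphism is a singleton. -/
theorem exists_eq_singleton {V S : Scheme.{u}} (g : V ⟶ S) [LocallyQuasiFinite g] (s : S) {T : Set V}
    (hT : IsIrreducible T) (h : T ⊆ g ⁻¹' {s}) : ∃ p, T = {p} := by
  have hd : _root_.IsDiscrete (g ⁻¹' {s}) := g.isDiscrete_preimage_singleton s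
  obtain ⟨p, hp⟩ := hT.1
  refine ⟨p, Set.Subset.antisymm (fun q hq => ?_) (by rintro _ rfl; exact hp)⟩
  exact (hd.mono h).subsingleton_of_isPreirreducible hT.2 hq hp

/-- Being an isomorphism over an open passes to smaller opens. -/
theorem isIso_restrict_of_le {X Y : Scheme.{u}} (f : X ⟶ Y) {U V : Y.Opens} (h : V ≤ U) (hU : IsIso (f ∣_ U)) :
    IsIso (f ∣_ V) := by
  have hle : f ⁻¹ᵁ V ≤ f ⁻¹ᵁ U := fun x hx => h hx
  have hcomm : X.homOfLE hle ≫ f ∣_ U = f ∣_ V ≫ Y.homOfLE h := by
    rw [← cancel_mono U.ι]
    simp [morphismRestrict_ι]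
  have h1 : IsPullback (X.homOfLE hle ≫ (f ⁻¹ᵁ U).ι) (f ∣_ V) f (Y.homOfLE h ≫ U.ι) := by
    simpa using (isPullback_morphismRestrict f V).flip
  have h2 := IsPullback.of_right h1 hcomm (isPullback_morphismRestrict f U).flip
  exact (MorphismProperty.isomorphisms Scheme).of_isPullback h2 hU

/-- **Node E5.** A proper morphism with irreducible fibre over the closed point `M`, finite over the complement of
`M`, factors as a contraction of that fibre to a point followed by a finite morphism. -/
theorem stein {C : Type u} [CommRing C] [IsNoetherianRing C] (M : Ideal C) [M.IsMaximal]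
    {W : Scheme.{u}} (q : W ⟶ Spec (CommRingCat.of C)) [IsProper q]
    (hfin : ∀ b ∈ M, IsFinite (q ∣_ (PrimeSpectrum.basicOpen b)))
    (hirr : IsIrreducible (q ⁻¹' {(⟨M, inferInstance⟩ : PrimeSpectrum C)})) :
    ∃ (V : Scheme.{u}) (c : W ⟶ V) (g : V ⟶ Spec (CommRingCat.of C)) (p : V) (hp : IsClosed ({p} : Set V)),
      c ≫ g = q ∧ IsFinite g ∧ IsProper c ∧ Surjective c ∧ g ⁻¹' {(⟨M, inferInstance⟩ : PrimeSpectrum C)} = {p} ∧
      IsIso (c ∣_ ⟨{p}ᶜ, hp.isOpen_compl⟩) := by
  set s : PrimeSpectrum C := ⟨M, inferInstance⟩ with hs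
  have hsc : IsClosed ({s} : Set (PrimeSpectrum C)) := by
    rw [PrimeSpectrum.isClosed_singleton_iff_isMaximal]
    infer_instance
  have hfinN : IsFinite q.fromNormalization := Groth.Agent.S1297.result q
  have hprop : IsProper q.toNormalization := by
    have : IsProper (q.toNormalization ≫ q.fromNormalization) := by
      rw [Scheme.Hom.toNormalization_fromNormalization]; infer_instance
    exact IsProper.of_comp q.toNormalization q.fromNormalization
  have hsurj : Function.Surjective q.toNormalization := q.toNormalization.surjective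
  have hcomp : ∀ x, q.fromNormalization (q.toNormalization x) = q x := fun x => by
    rw [← Scheme.Hom.comp_apply, Scheme.Hom.toNormalization_fromNormalization]
  have himg : q.toNormalization '' (q ⁻¹' {s}) = q.fromNormalization ⁻¹' {s} := by
    ext v
    constructor
    · rintro ⟨x, hx, rfl⟩
      exact (hcomp x).trans hx
    · intro hv
      obtain ⟨x, rfl⟩ := hsurj v
      exact ⟨x, (hcomp x).symm.trans hv, rfl⟩
  obtain ⟨p, hp⟩ := exists_eq_singleton q.fromNormalization s (T := q.fromNormalization ⁻¹' {s})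
    (by rw [← himg]; exact hirr.image _ q.toNormalization.continuous.continuousOn) subset_rfl
  have hpc : IsClosed ({p} : Set q.normalization) := by
    rw [← hp]
    exact hsc.preimage q.fromNormalization.continuous
  obtain ⟨U, hU, hUeq⟩ := q.exists_isIso_morphismRestrict_toNormalization
  have hmemU : ∀ x, q.toNormalization x ∈ U ↔ q.QuasiFiniteAt x := by
    intro x
    have : x ∈ (q.toNormalization ⁻¹ᵁ U).1 ↔ x ∈ { x | q.QuasiFiniteAt x } := by rw [hUeq]
    exact this
  have hle : (⟨{p}ᶜ, hpc.isOpen_compl⟩ : q.normalization.Opens) ≤ U := by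
    intro v hv
    obtain ⟨x, rfl⟩ := hsurj v
    rw [hmemU]
    have hne : q x ≠ s := by
      intro h
      apply hv
      have : q.toNormalization x ∈ q.fromNormalization ⁻¹' {s} := (hcomp x).trans h
      rw [hp] at this
      exact this
    have : ∃ b ∈ M, b ∉ (q x : PrimeSpectrum C).asIdeal := by
      by_contra hc
      push Not at hc
      apply hne
      apply PrimeSpectrum.ext
      exact ((‹M.IsMaximal›).eq_of_le (q x : PrimeSpectrum C).isPrime.ne_top hc).symm
    obtain ⟨b, hb, hb'⟩ := this
    have := hfin b hb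
    exact quasiFiniteAt_of_restrict q (PrimeSpectrum.basicOpen b) x hb'
  refine ⟨q.normalization, q.toNormalization, q.fromNormalization, p, hpc, q.toNormalization_fromNormalization,
    hfinN, hprop, ⟨hsurj⟩, hp, isIso_restrict_of_le _ hle hU⟩

end K92.ContrStein
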